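import Mathlib

/-!
# Doubly transitive groups with all elements of an involution centraliser fixing equally many points

Counting: such a group has a single class of involutions, every element swapping two points is an
involution, two-point stabilisers are abelian and the centraliser has order `n - i`.
-/

set_option autoImplicit false
set_option linter.style.haveILetI false
set_option linter.unusedSectionVars false

namespace Cfsg.Agent.InvCentFix

open MulAction

universe u v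

variable {G : Type u} {Ω : Type v} [Group G] [MulAction G Ω]

/-- The number of fixed points of an element. -/
noncomputable def fix (Ω : Type v) {G : Type u} [Group G] [MulAction G Ω] (g : G) : ℕ :=
  Nat.card {x : Ω // g • x = x}

/-- The hypothesis: double transitivity, and an involution all of whose non-trivial centralising
elements fix the same number of points. -/
structure Hyp (G : Type u) (Ω : Type v) [Group G] [MulAction G Ω] (t : G) (i : ℕ) : Prop where
  faithful : FaithfulSMul G Ω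
  two : ∀ a b c d : Ω, a ≠ b → c ≠ d → ∃ g : G, g • a = c ∧ g • b = d
  sq : t * t = 1
  ne : t ≠ 1
  fix_t : fix Ω t = i
  cent : ∀ g : G, Commute g t → g ≠ 1 → fix Ω g = i

theorem fix_conj (h g : G) : fix Ω (h * g * h⁻¹) = fix Ω g := by
  refine Nat.card_congr
    ((MulAction.toPerm h⁻¹).subtypeEquiv fun x => ?_)
  show (h * g * h⁻¹) • x = x ↔ g • (h⁻¹ • x) = h⁻¹ • x
  rw [mul_smul, mul_smul, eq_inv_smul_iff]

theorem inv_eq_self {s : G} (hs : s * s = 1) : s⁻¹ = s := inv_eq_of_mul_eq_one_right hs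

theorem smul_smul_self {s : G} (hs : s * s = 1) (x : Ω) : s • s • x = x := by
  rw [smul_smul, hs, one_smul]

theorem fix_le (g : G) [Finite Ω] : fix Ω g ≤ Nat.card Ω :=
  Nat.card_le_card_of_injective _ Subtype.val_injective

variable [Finite Ω]

theorem card_moved (g : G) : Nat.card {x : Ω // g • x ≠ x} = Nat.card Ω - fix Ω g := by
  classical
  haveI := Fintype.ofFinite Ω
  rw [fix, Nat.card_eq_fintype_card, Nat.card_eq_fintype_card, Nat.card_eq_fintype_card,
    Fintype.card_subtype_compl]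

theorem moved_of_ne_one [FaithfulSMul G Ω] {g : G} (hg : g ≠ 1) : ∃ x : Ω, g • x ≠ x := by
  by_contra hno
  push Not at hno
  exact hg (eq_of_smul_eq_smul fun x : Ω => (hno x).trans (one_smul G x).symm)

theorem fix_lt [FaithfulSMul G Ω] {g : G} (hg : g ≠ 1) : fix Ω g < Nat.card Ω := by
  obtain ⟨x, hx⟩ := moved_of_ne_one (Ω := Ω) hg
  have h1 := card_moved (Ω := Ω) g
  haveI : Nonempty {x : Ω // g • x ≠ x} := ⟨⟨x, hx⟩⟩
  have h2 : 0 < Nat.card {x : Ω // g • x ≠ x} := Nat.card_pos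
  omega

theorem two_le_fix {g : G} {x y : Ω} (hxy : x ≠ y) (hx : g • x = x) (hy : g • y = y) :
    2 ≤ fix Ω g := by
  classical
  haveI := Fintype.ofFinite Ω
  haveI : Nontrivial {x : Ω // g • x = x} := ⟨⟨x, hx⟩, ⟨y, hy⟩, fun e => hxy (congrArg Subtype.val e)⟩
  exact Finite.one_lt_card

theorem exists_two_fixed {g : G} (h : 2 ≤ fix Ω g) : ∃ x y : Ω, x ≠ y ∧ g • x = x ∧ g • y = y := by
  obtain ⟨⟨x, hx⟩, ⟨y, hy⟩, hne⟩ := (Finite.one_lt_card_iff_nontrivial.1
    (show 1 < Nat.card {x : Ω // g • x = x} by have : fix Ω g = _ := rfl; rw [fix] at h; omega)).exists_pair_ne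
  exact ⟨x, y, fun e => hne (Subtype.ext e), hx, hy⟩

theorem fixed_of_fix_eq {g h : G} (hsub : ∀ x : Ω, g • x = x → h • x = x) (heq : fix Ω g = fix Ω h)
    {x : Ω} (hx : h • x = x) : g • x = x := by
  have hf : Function.Bijective (fun y : {x : Ω // g • x = x} => (⟨y.1, hsub y.1 y.2⟩ : {x : Ω // h • x = x})) :=
    (Nat.bijective_iff_injective_and_card _).2
      ⟨fun a b e => Subtype.ext (congrArg Subtype.val e :), heq⟩
  obtain ⟨y, hy⟩ := hf.2 ⟨x, hx⟩
  have e : y.1 = x := congrArg Subtype.val hy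
  exact e ▸ y.2

namespace Hyp

variable [Finite G] {t : G} {i : ℕ} (h : Hyp G Ω t i)

include h

theorem lt_card : i < Nat.card Ω := by
  haveI := h.faithful
  exact h.fix_t ▸ fix_lt h.ne

theorem card_cent_dvd : Nat.card (Subgroup.centralizer ({t} : Set G)) ∣ Nat.card Ω - i := by
  classical
  haveI := Fintype.ofFinite G
  haveI := Fintype.ofFinite Ω
  set C := Subgroup.centralizer ({t} : Set G) with hC
  haveI := Fintype.ofFinite C
  haveI : ∀ c : C, Fintype (fixedBy Ω c) := fun c => Fintype.ofFinite _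
  haveI : Fintype (orbitRel.Quotient C Ω) := Fintype.ofFinite _
  have hb := MulAction.sum_card_fixedBy_eq_card_orbits_mul_card_group C Ω
  have hone : Fintype.card (fixedBy Ω (1 : C)) = Nat.card Ω := by
    rw [← Nat.card_eq_fintype_card]
    exact Nat.card_congr ((Equiv.subtypeEquivRight fun x => by simp).trans
      (Equiv.subtypeUnivEquiv (fun _ => trivial : ∀ x : Ω, True)))
  have hsum : (∑ c ∈ (Finset.univ : Finset C).erase 1, Fintype.card (fixedBy Ω c)) =
      (Fintype.card C - 1) * i := by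
    rw [Finset.sum_congr rfl (g := fun _ => i) fun c hc => ?_, Finset.sum_const,
      Finset.card_erase_of_mem (Finset.mem_univ _), Finset.card_univ, smul_eq_mul]
    rw [← Nat.card_eq_fintype_card]
    exact h.cent (c : G) (Subgroup.mem_centralizer_singleton_iff.1 c.2)
      fun e => (Finset.ne_of_mem_erase hc) (Subtype.ext e)
  rw [← Finset.add_sum_erase _ _ (Finset.mem_univ (1 : C)), hone, hsum] at hb
  rw [Nat.card_eq_fintype_card (α := C)]
  have hpos : 0 < Fintype.card C := Fintype.card_pos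
  have hlt := h.lt_card
  have hb' : (Nat.card Ω - i) + Fintype.card C * i =
      Fintype.card C * Fintype.card (orbitRel.Quotient C Ω) := by
    rw [mul_comm (Fintype.card C) (Fintype.card (orbitRel.Quotient C Ω)), ← hb, Nat.sub_mul, one_mul,
      mul_comm (Fintype.card C) i]
    have : i ≤ i * Fintype.card C := Nat.le_mul_of_pos_right _ hpos
    omega
  exact (Nat.dvd_add_left (dvd_mul_right _ _)).1 (hb' ▸ dvd_mul_right _ _)

omit h in
/-- Pairs of a point and an element swapping it with another point. -/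
abbrev Swaps (G : Type u) (Ω : Type v) [Group G] [MulAction G Ω] :=
  {p : Ω × G // p.2 • p.1 ≠ p.1 ∧ p.2 • p.2 • p.1 = p.1}

theorem card_swaps_le : Nat.card (Swaps G Ω) ≤ Nat.card G := by
  classical
  haveI := h.faithful
  obtain ⟨a, ha⟩ := moved_of_ne_one (Ω := Ω) h.ne
  have hab : a ≠ t • a := Ne.symm ha
  choose H hH1 hH2 using fun (p : Swaps G Ω) =>
    h.two a (t • a) p.1.1 (p.1.2 • p.1.1) hab (Ne.symm p.2.1)
  let hfun : {q : Ω × Ω // q.1 ≠ q.2} → G := fun q => (h.two a (t • a) q.1.1 q.1.2 hab q.2).choose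
  have hspec : ∀ q, hfun q • a = q.1.1 ∧ hfun q • t • a = q.1.2 := fun q =>
    (h.two a (t • a) q.1.1 q.1.2 hab q.2).choose_spec
  let Φ : Swaps G Ω → G := fun p =>
    let k := hfun ⟨(p.1.1, p.1.2 • p.1.1), Ne.symm p.2.1⟩
    k * (t * (k⁻¹ * p.1.2 * k))
  refine Nat.card_le_card_of_injective Φ fun p p' e => ?_
  obtain ⟨⟨x, s⟩, hs1, hs2⟩ := p
  obtain ⟨⟨x', s'⟩, hs1', hs2'⟩ := p'
  simp only [Φ] at e
  obtain ⟨k1, k2⟩ := hspec ⟨(x, s • x), Ne.symm hs1⟩
  obtain ⟨k1', k2'⟩ := hspec ⟨(x', s' • x'), Ne.symm hs1'⟩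
  simp only at k1 k2 k1' k2' hs2 hs2'
  generalize hk : hfun ⟨(x, s • x), Ne.symm hs1⟩ = k at e k1 k2
  generalize hk' : hfun ⟨(x', s' • x'), Ne.symm hs1'⟩ = k' at e k1' k2'
  have act : ∀ (k s : G) (x : Ω), k • a = x → k • t • a = s • x → s • s • x = x →
      (k * (t * (k⁻¹ * s * k))) • a = x ∧ (k * (t * (k⁻¹ * s * k))) • t • a = s • x := by
    intro k s x e1 e2 e3
    refine ⟨?_, ?_⟩
    · rw [mul_smul, mul_smul, mul_smul, mul_smul, e1, ← e2, inv_smul_smul,
        smul_smul_self h.sq, e1]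
    · rw [mul_smul, mul_smul, mul_smul, mul_smul, e2, e3, ← e1, inv_smul_smul, e2, e1]
  have a1 := act k s x k1 k2 hs2
  have a2 := act k' s' x' k1' k2' hs2'
  rw [e, a2.1, a2.2] at a1
  obtain ⟨rfl, e4⟩ := a1
  have hkk : k' = k := by
    rw [← hk', ← hk]
    exact congrArg hfun (Subtype.ext (Prod.ext rfl e4))
  subst hkk
  have e5 := mul_left_cancel (mul_left_cancel e)
  have e6 : s = s' := mul_left_cancel (mul_right_cancel e5)
  subst e6
  rfl

theorem count : Nat.card Ω - i = Nat.card (Subgroup.centralizer ({t} : Set G)) ∧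
    Nat.card (Swaps G Ω) = Nat.card G ∧ ∀ s : G, ∀ x : Ω, s • x ≠ x → s • s • x = x → ∃ g : G, g * t * g⁻¹ = s := by
  classical
  set C := Subgroup.centralizer ({t} : Set G) with hC
  let pick : G → G := fun s => if hs : ∃ g : G, g⁻¹ * t * g = s then hs.choose else 1
  have hpick : ∀ g : G, (pick (g⁻¹ * t * g))⁻¹ * t * pick (g⁻¹ * t * g) = g⁻¹ * t * g := fun g => by
    have hs : ∃ g' : G, g'⁻¹ * t * g' = g⁻¹ * t * g := ⟨g, rfl⟩
    simp only [pick, dif_pos hs]
    exact hs.choose_spec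
  let Ψ : G × {y : Ω // t • y ≠ y} → Swaps G Ω × C := fun p =>
    (⟨(p.1⁻¹ • p.2.1, p.1⁻¹ * t * p.1), by
        refine ⟨fun e => p.2.2 ?_, ?_⟩
        · simpa [mul_smul] using e
        · simp only [mul_smul, smul_inv_smul, smul_smul_self h.sq]⟩,
      ⟨p.1 * (pick (p.1⁻¹ * t * p.1))⁻¹, Subgroup.mem_centralizer_singleton_iff.2 (by
        have := hpick p.1
        generalize pick (p.1⁻¹ * t * p.1) = k at this
        calc p.1 * k⁻¹ * t = p.1 * (k⁻¹ * t * k) * k⁻¹ := by group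
          _ = t * (p.1 * k⁻¹) := by rw [this]; group)⟩)
  have hΨ : Function.Injective Ψ := by
    rintro ⟨g, y⟩ ⟨g', y'⟩ e
    have e1 : g⁻¹ • y.1 = g'⁻¹ • y'.1 := congrArg (fun q : Swaps G Ω × C => q.1.1.1) e
    have e2 : g⁻¹ * t * g = g'⁻¹ * t * g' := congrArg (fun q : Swaps G Ω × C => q.1.1.2) e
    have e3 : g * (pick (g⁻¹ * t * g))⁻¹ = g' * (pick (g'⁻¹ * t * g'))⁻¹ :=
      congrArg (fun q : Swaps G Ω × C => (q.2 : G)) e
    rw [e2] at e3
    obtain rfl := mul_right_cancel e3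
    obtain rfl : y = y' := Subtype.ext (MulAction.injective _ e1)
    rfl
  have h1 := Nat.card_le_card_of_injective Ψ hΨ
  rw [Nat.card_prod, Nat.card_prod, card_moved, h.fix_t] at h1
  have h2 := h.card_swaps_le
  have hlt := h.lt_card
  have hCG : 0 < Nat.card C := Nat.card_pos
  have hG : 0 < Nat.card G := Nat.card_pos
  have h3 : Nat.card G * (Nat.card Ω - i) ≤ Nat.card G * Nat.card C :=
    h1.trans (Nat.mul_le_mul_right _ h2)
  have h4 : Nat.card Ω - i = Nat.card C :=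
    le_antisymm (Nat.le_of_mul_le_mul_left h3 hG) (Nat.le_of_dvd (by omega) h.card_cent_dvd)
  rw [h4] at h1
  have h5 : Nat.card (Swaps G Ω) = Nat.card G := le_antisymm h2 (Nat.le_of_mul_le_mul_right h1 hCG)
  refine ⟨h4, h5, fun s x hx1 hx2 => ?_⟩
  obtain ⟨⟨g, y⟩, e⟩ := ((Nat.bijective_iff_injective_and_card Ψ).2 ⟨hΨ, by
    rw [Nat.card_prod, Nat.card_prod, card_moved, h.fix_t, h4, h5]⟩).2
    (⟨(x, s), hx1, hx2⟩, 1)
  refine ⟨g⁻¹, ?_⟩
  rw [inv_inv]
  exact congrArg (fun q : Swaps G Ω × C => q.1.1.2) e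

theorem conj_of_involution {s : G} (hs : s * s = 1) (hs1 : s ≠ 1) : ∃ g : G, g * t * g⁻¹ = s := by
  haveI := h.faithful
  obtain ⟨x, hx⟩ := moved_of_ne_one (Ω := Ω) hs1
  exact h.count.2.2 s x hx (smul_smul_self hs x)

/-- The hypothesis holds for every involution. -/
theorem change {s : G} (hs : s * s = 1) (hs1 : s ≠ 1) : Hyp G Ω s i := by
  obtain ⟨g, rfl⟩ := h.conj_of_involution hs hs1
  refine ⟨h.faithful, h.two, hs, hs1, (fix_conj g t).trans h.fix_t, fun x hx hx1 => ?_⟩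
  rw [show x = g * (g⁻¹ * x * g) * g⁻¹ by group, fix_conj]
  refine h.cent _ ?_ fun e => hx1 (by rw [show x = g * (g⁻¹ * x * g) * g⁻¹ by group, e]; group)
  show g⁻¹ * x * g * t = t * (g⁻¹ * x * g)
  calc g⁻¹ * x * g * t = g⁻¹ * (x * (g * t * g⁻¹)) * g := by group
    _ = g⁻¹ * ((g * t * g⁻¹) * x) * g := by rw [hx.eq]
    _ = t * (g⁻¹ * x * g) := by group

theorem fix_involution {s : G} (hs : s * s = 1) (hs1 : s ≠ 1) : fix Ω s = i := (h.change hs hs1).fix_t

theorem swap_sq {s : G} {x : Ω} (h1 : s • x ≠ x) (h2 : s • s • x = x) : s * s = 1 := by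
  obtain ⟨g, rfl⟩ := h.count.2.2 s x h1 h2
  calc g * t * g⁻¹ * (g * t * g⁻¹) = g * (t * t) * g⁻¹ := by group
    _ = 1 := by rw [h.sq]; group

theorem exists_swap {x y : Ω} (hxy : x ≠ y) : ∃ s : G, s * s = 1 ∧ s • x = y ∧ s • y = x := by
  haveI := h.faithful
  obtain ⟨a, ha⟩ := moved_of_ne_one (Ω := Ω) h.ne
  obtain ⟨g, hga, hgb⟩ := h.two a (t • a) x y (Ne.symm ha) hxy
  refine ⟨g * t * g⁻¹, ?_, ?_, ?_⟩
  · calc g * t * g⁻¹ * (g * t * g⁻¹) = g * (t * t) * g⁻¹ := by group
      _ = 1 := by rw [h.sq]; group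
  · rw [mul_smul, mul_smul, ← hga, inv_smul_smul, hgb]
  · rw [mul_smul, mul_smul, ← hgb, inv_smul_smul, smul_smul_self h.sq, hga]

/-- An element swapping two points inverts every element fixing both. -/
theorem invert {x y : Ω} (hxy : x ≠ y) {s d : G} (hs1 : s • x = y) (hs2 : s • y = x)
    (hdx : d • x = x) (hdy : d • y = y) : s * d * s⁻¹ = d⁻¹ := by
  have e1 : s * s = 1 := h.swap_sq (x := x) (by rw [hs1]; exact hxy.symm) (by rw [hs1, hs2])
  have e2 : s * d * (s * d) = 1 := h.swap_sq (x := x)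
    (by rw [mul_smul, hdx, hs1]; exact hxy.symm) (by simp only [mul_smul, hdx, hs1, hdy, hs2])
  rw [inv_eq_self e1]
  exact (inv_eq_of_mul_eq_one_left (by rw [← e2]; group)).symm

theorem commute_fixing {x y : Ω} (hxy : x ≠ y) {d e : G} (hdx : d • x = x) (hdy : d • y = y)
    (hex : e • x = x) (hey : e • y = y) : Commute d e := by
  obtain ⟨s, -, hs1, hs2⟩ := h.exists_swap hxy
  have h1 := h.invert hxy hs1 hs2 hdx hdy
  have h2 := h.invert hxy hs1 hs2 hex hey
  have h3 := h.invert hxy hs1 hs2 (show (d * e) • x = x by rw [mul_smul, hex, hdx])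
    (show (d * e) • y = y by rw [mul_smul, hey, hdy])
  rw [show s * (d * e) * s⁻¹ = s * d * s⁻¹ * (s * e * s⁻¹) by group, h1, h2, mul_inv_rev] at h3
  have h4 := congrArg (·⁻¹) h3
  simp only [mul_inv_rev, inv_inv] at h4
  exact h4.symm

/-- `|G| = n (n-1) |G_{xy}|`. -/
theorem card_group {x y : Ω} (hxy : x ≠ y) :
    Nat.card G = Nat.card {q : Ω × Ω // q.1 ≠ q.2} * Nat.card ↥(stabilizer G x ⊓ stabilizer G y) := by
  classical
  choose k hk1 hk2 using fun q : {q : Ω × Ω // q.1 ≠ q.2} => h.two x y q.1.1 q.1.2 hxy q.2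
  rw [← Nat.card_prod]
  refine (Nat.card_eq_of_bijective (fun p : {q : Ω × Ω // q.1 ≠ q.2} × ↥(stabilizer G x ⊓ stabilizer G y) =>
    k p.1 * (p.2 : G)) ⟨?_, fun g => ?_⟩).symm
  · rintro ⟨q, d⟩ ⟨q', d'⟩ e
    have ex : (d : G) • x = x := d.2.1
    have ey : (d : G) • y = y := d.2.2
    have ex' : (d' : G) • x = x := d'.2.1
    have ey' : (d' : G) • y = y := d'.2.2
    have e1 := congrArg (· • x) e
    have e2 := congrArg (· • y) e
    simp only [mul_smul, ex, ey, ex', ey', hk1, hk2] at e1 e2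
    obtain rfl : q = q' := Subtype.ext (Prod.ext e1 e2)
    exact Prod.ext rfl (Subtype.ext (mul_left_cancel e))
  · let q : {q : Ω × Ω // q.1 ≠ q.2} := ⟨(g • x, g • y), fun e => hxy (MulAction.injective g e)⟩
    refine ⟨(q, ⟨(k q)⁻¹ * g, ?_, ?_⟩), by simp [mul_inv_cancel_left]⟩
    · show ((k q)⁻¹ * g) • x = x
      rw [mul_smul, inv_smul_eq_iff, hk1]
    · show ((k q)⁻¹ * g) • y = y
      rw [mul_smul, inv_smul_eq_iff, hk2]

theorem card_offdiag : Nat.card {q : Ω × Ω // q.1 ≠ q.2} = Nat.card Ω * (Nat.card Ω - 1) := by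
  classical
  haveI := Fintype.ofFinite Ω
  rw [Nat.card_congr (Equiv.subtypeProdEquivSigmaSubtype fun a b : Ω => a ≠ b), Nat.card_sigma]
  have : ∀ a : Ω, Nat.card {b : Ω // a ≠ b} = Nat.card Ω - 1 := fun a => by
    rw [Nat.card_eq_fintype_card, Nat.card_eq_fintype_card, Fintype.card_subtype_compl]
    simp
  simp only [this, Finset.sum_const, Finset.card_univ, smul_eq_mul, Nat.card_eq_fintype_card]

theorem card_stab_eq {x y x' y' : Ω} (hxy : x ≠ y) (hxy' : x' ≠ y') :
    Nat.card ↥(stabilizer G x ⊓ stabilizer G y) = Nat.card ↥(stabilizer G x' ⊓ stabilizer G y') := by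
  have e := (h.card_group hxy).symm.trans (h.card_group hxy')
  haveI : Nonempty {q : Ω × Ω // q.1 ≠ q.2} := ⟨⟨(x, y), hxy⟩⟩
  exact Nat.eq_of_mul_eq_mul_left Nat.card_pos e

/-- The number of involutions. -/
theorem card_involutions :
    Nat.card {s : G // s * s = 1 ∧ s ≠ 1} * (Nat.card Ω - i) = Nat.card G := by
  classical
  haveI := Fintype.ofFinite G
  rw [← h.count.2.1]
  haveI := h.faithful
  let E : Swaps G Ω ≃ Σ s : {s : G // s * s = 1 ∧ s ≠ 1}, {x : Ω // (s : G) • x ≠ x} :=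
    { toFun := fun p => ⟨⟨p.1.2, h.swap_sq p.2.1 p.2.2, fun e => p.2.1 (by rw [e, one_smul])⟩, ⟨p.1.1, p.2.1⟩⟩
      invFun := fun p => ⟨(p.2.1, p.1.1), p.2.2, smul_smul_self p.1.2.1 _⟩
      left_inv := fun _ => rfl
      right_inv := fun _ => rfl }
  rw [Nat.card_congr E, Nat.card_sigma]
  rw [Finset.sum_congr rfl (g := fun _ => Nat.card Ω - i) fun s _ => by
    rw [card_moved, h.fix_involution s.2.1 s.2.2]]
  simp [Nat.card_eq_fintype_card]

end Hyp

end Cfsg.Agent.InvCentFix
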