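import Cfsg.Agent.Lib.Perm.InvCentFix.Count

/-!
# At least two fixed points: exactly two
-/

set_option autoImplicit false
set_option linter.style.haveILetI false
set_option linter.unusedSectionVars false

namespace Cfsg.Agent.InvCentFix

open MulAction

universe u v

variable {G : Type u} {Ω : Type v} [Group G] [MulAction G Ω] [Finite Ω] [Finite G]

namespace Hyp

variable {t : G} {i : ℕ} (h : Hyp G Ω t i)

include h

/-- Elements of odd order centralising an involution fix its fixed points. -/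
theorem odd_fixes {u g : G} (hu : u * u = 1) (hu1 : u ≠ 1) (hg : Commute g u) (ho : Odd (orderOf g))
    {x : Ω} (hx : u • x = x) : g • x = x := by
  by_cases hg1 : g = 1
  · rw [hg1, one_smul]
  obtain ⟨k, hk⟩ := ho
  have h1 := h.change hu hu1
  have hne : g * u ≠ 1 := fun e => by
    have e2 : g = u := by rw [eq_inv_of_mul_eq_one_left e, inv_eq_self hu]
    have e3 : orderOf g ∣ 2 := orderOf_dvd_of_pow_eq_one (by rw [e2, pow_two, hu])
    rw [hk] at e3
    have := Nat.le_of_dvd two_pos e3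
    refine hg1 (orderOf_eq_one_iff.1 ?_)
    omega
  have hsub : ∀ y : Ω, (g * u) • y = y → g • y = y := by
    intro y hy
    have e : g = ((g * u) * (g * u)) ^ (k + 1) := by
      rw [show g * u * (g * u) = g * g by
        rw [mul_assoc, ← mul_assoc u g u, ← hg.eq, mul_assoc g u u, hu, mul_one], ← pow_two, ← pow_mul,
        show 2 * (k + 1) = orderOf g + 1 by omega, pow_succ, pow_orderOf_eq_one, one_mul]
    have hm : g ∈ stabilizer G y := by
      rw [e]
      exact pow_mem (mul_mem (mem_stabilizer_iff.2 hy) (mem_stabilizer_iff.2 hy)) _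
    exact hm
  have hcu : Commute (g * u) u := (hg.mul_left (Commute.refl u))
  have hsub' : ∀ y : Ω, (g * u) • y = y → u • y = y := by
    intro y hy
    have h2 := hsub y hy
    rw [mul_smul] at hy
    exact MulAction.injective g (hy.trans h2.symm)
  have h2 := fixed_of_fix_eq hsub' ((h1.cent _ hcu hne).trans h1.fix_t.symm) hx
  exact hsub x h2

theorem exists_involution_fixing (hi : 2 ≤ i) {x y : Ω} (hxy : x ≠ y) :
    ∃ u : G, u * u = 1 ∧ u ≠ 1 ∧ u • x = x ∧ u • y = y := by
  obtain ⟨a, b, hab, ha, hb⟩ := exists_two_fixed (g := t) (Ω := Ω) (by rw [h.fix_t]; exact hi)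
  obtain ⟨g, hga, hgb⟩ := h.two a b x y hab hxy
  refine ⟨g * t * g⁻¹, ?_, fun e => h.ne ?_, ?_, ?_⟩
  · calc g * t * g⁻¹ * (g * t * g⁻¹) = g * (t * t) * g⁻¹ := by group
      _ = 1 := by rw [h.sq]; group
  · rw [show t = g⁻¹ * (g * t * g⁻¹) * g by group, e]; group
  · rw [mul_smul, mul_smul, ← hga, inv_smul_smul, ha]
  · rw [mul_smul, mul_smul, ← hgb, inv_smul_smul, hb]

/-- With at least three fixed points two-point stabilisers have exponent two. -/
theorem sq_eq_one (hi : 3 ≤ i) {x y : Ω} (hxy : x ≠ y) {d : G} (hdx : d • x = x) (hdy : d • y = y) :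
    d * d = 1 := by
  classical
  by_contra hd
  -- an involution `u` commuting with `d` with the same fixed points
  obtain ⟨u, hu, hu1, hcu, hux, huy, hsame⟩ : ∃ u : G, u * u = 1 ∧ u ≠ 1 ∧ Commute d u ∧ u • x = x ∧
      u • y = y ∧ ∀ z : Ω, u • z = z → d • z = z := by
    have hd1 : d ≠ 1 := fun e => hd (by rw [e, one_mul])
    rcases Nat.even_or_odd (orderOf d) with ⟨m, hm⟩ | hodd
    · have hne : d ^ m ≠ 1 := pow_ne_one_of_lt_orderOf (by
        have := orderOf_pos d; omega) (by have := orderOf_pos d; omega)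
      have hsq : d ^ m * d ^ m = 1 := by rw [← pow_add, ← hm, pow_orderOf_eq_one]
      have hc : Commute d (d ^ m) := (Commute.refl d).pow_right m
      have hfix : ∀ z : Ω, d • z = z → d ^ m • z = z := fun z hz =>
        mem_stabilizer_iff.1 (pow_mem (mem_stabilizer_iff.2 hz) m)
      exact ⟨d ^ m, hsq, hne, hc, hfix x hdx, hfix y hdy, fun z hz =>
        fixed_of_fix_eq hfix (((h.change hsq hne).cent d hc hd1).trans (h.fix_involution hsq hne).symm) hz⟩
    · obtain ⟨u, hu, hu1, hux, huy⟩ := h.exists_involution_fixing (by omega) hxy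
      have hc := h.commute_fixing hxy hdx hdy hux huy
      exact ⟨u, hu, hu1, hc, hux, huy, fun z hz => h.odd_fixes hu hu1 hc hodd hz⟩
  -- a third fixed point
  obtain ⟨z, hz, hzx, hzy⟩ : ∃ z : Ω, u • z = z ∧ z ≠ x ∧ z ≠ y := by
    haveI := Fintype.ofFinite Ω
    have h3 : 2 < (Finset.univ.filter fun z : Ω => u • z = z).card := by
      have e := h.fix_involution hu hu1
      rw [fix, Nat.card_eq_fintype_card, Fintype.card_subtype] at e
      omega
    obtain ⟨z, hz, hne⟩ := Finset.exists_mem_notMem_of_card_lt_card (s := {x, y})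
      (lt_of_le_of_lt (Finset.card_le_two) h3)
    refine ⟨z, (Finset.mem_filter.1 hz).2, ?_, ?_⟩ <;> rintro rfl <;> simp at hne
  have hdz := hsame z hz
  obtain ⟨s, -, hs1, hs2⟩ := h.exists_swap hxy
  obtain ⟨s', -, hs1', hs2'⟩ := h.exists_swap hzx.symm
  set w := s' * s with hw
  have hwy : w • y = z := by rw [hw, mul_smul, hs2, hs1']
  have comm : ∀ e : G, e • x = x → e • y = y → e • z = z → Commute w e := by
    intro e hx hy hze
    have e1 := h.invert hxy hs1 hs2 hx hy
    have e2 := h.invert hzx.symm hs1' hs2' hx hze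
    show w * e = e * w
    calc w * e = s' * (s * e * s⁻¹) * s := by rw [hw]; group
      _ = (s' * e * s'⁻¹)⁻¹ * (s' * s) := by rw [e1]; group
      _ = e * w := by rw [e2, inv_inv, hw]
  have hwd := comm d hdx hdy hdz
  have hwu := comm u hux huy hz
  obtain ⟨k, m, hm, hkm⟩ := Nat.exists_eq_two_pow_mul_odd (orderOf_pos w).ne'
  have hwk : w ^ 2 ^ k • y = y := by
    refine h.odd_fixes hu hu1 (hwu.pow_left _) ?_ huy
    rw [orderOf_pow' _ (pow_ne_zero k two_ne_zero), hkm, Nat.gcd_mul_right_left,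
      Nat.mul_div_cancel_left _ (pow_pos two_pos k)]
    exact hm
  have hex : ∃ j, w ^ 2 ^ j • y = y := ⟨k, hwk⟩
  have hspec := Nat.find_spec hex
  rcases Nat.eq_zero_or_pos (Nat.find hex) with hj | hj
  · rw [hj, pow_zero, pow_one, hwy] at hspec
    exact hzy hspec
  obtain ⟨j, hj'⟩ := Nat.exists_eq_succ_of_ne_zero hj.ne'
  rw [hj', pow_succ, pow_mul, pow_two, mul_smul] at hspec
  have hmin : w ^ 2 ^ j • y ≠ y := Nat.find_min hex (by omega)
  set v := w ^ 2 ^ j with hv
  have hvd : Commute v d := hwd.pow_left _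
  have h1 := h.invert hmin.symm (s := v) rfl hspec hdy
    (by rw [← mul_smul, ← hvd.eq, mul_smul, hdy])
  rw [hvd.eq, mul_inv_cancel_right] at h1
  exact hd (by nth_rewrite 2 [h1]; exact mul_inv_cancel d)

/-- The fixed point set of `t` is an orbit of its centraliser. -/
theorem card_cent_stab (_hi : 2 ≤ i) {a : Ω} (ha : t • a = a) :
    Nat.card (Subgroup.centralizer ({t} : Set G)) =
      i * Nat.card ↥(Subgroup.centralizer ({t} : Set G) ⊓ stabilizer G a) := by
  classical
  set C := Subgroup.centralizer ({t} : Set G) with hC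
  have horb : orbit C a = {x : Ω | t • x = x} := by
    ext x
    constructor
    · rintro ⟨⟨c, hc⟩, rfl⟩
      show t • c • a = c • a
      rw [smul_smul, ← Subgroup.mem_centralizer_singleton_iff.1 hc, mul_smul, ha]
    · intro hx
      by_cases hxa : x = a
      · rw [hxa]; exact MulAction.mem_orbit_self a
      · obtain ⟨s, hs, hs1, hs2⟩ := h.exists_swap (Ne.symm hxa)
        have h1 := h.invert (Ne.symm hxa) hs1 hs2 ha hx
        rw [inv_eq_self h.sq, mul_inv_eq_iff_eq_mul] at h1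
        exact ⟨⟨s, Subgroup.mem_centralizer_singleton_iff.2 h1⟩, hs1⟩
  rw [← (stabilizer C a).index_mul_card, MulAction.index_stabilizer, horb, ← Nat.card_coe_set_eq]
  congr 1
  · exact h.fix_t
  · exact Nat.card_congr
      { toFun := fun c => ⟨((c : C) : G), Subgroup.mem_inf.2 ⟨(c : C).2, c.2⟩⟩
        invFun := fun c => ⟨⟨(c : G), (Subgroup.mem_inf.1 c.2).1⟩, (Subgroup.mem_inf.1 c.2).2⟩
        left_inv := fun _ => rfl
        right_inv := fun _ => rfl }

omit h in
theorem two_pow_mul_odd {a b r s : ℕ} (hr : Odd r) (hs : Odd s) (h : 2 ^ a * r = 2 ^ b * s) :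
    2 ^ a = 2 ^ b ∧ r = s := by
  have key : ∀ {a b r s : ℕ}, Odd s → 2 ^ a * r = 2 ^ b * s → 2 ^ a ∣ 2 ^ b := fun {a b r s} hs e =>
    (Nat.Coprime.pow_left a (Nat.coprime_two_left.2 hs)).dvd_of_dvd_mul_right (e ▸ dvd_mul_right _ _)
  have e := Nat.dvd_antisymm (key hs h) (key hr h.symm)
  exact ⟨e, Nat.eq_of_mul_eq_mul_left (pow_pos two_pos a) (e ▸ h)⟩

/-- There are no more than two fixed points. -/
theorem le_two : i ≤ 2 := by
  classical
  by_contra hi
  push Not at hi
  haveI : Fintype G := Fintype.ofFinite G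
  haveI : Fintype Ω := Fintype.ofFinite Ω
  haveI : Fact (Nat.Prime 2) := ⟨Nat.prime_two⟩
  obtain ⟨a, b, hab, ha, hb⟩ := exists_two_fixed (g := t) (Ω := Ω) (by rw [h.fix_t]; omega)
  set D := stabilizer G a ⊓ stabilizer G b with hD
  set C := Subgroup.centralizer ({t} : Set G) with hC
  set q := Nat.card D with hq
  have hqd : ∀ {x y : Ω}, x ≠ y → Nat.card ↥(stabilizer G x ⊓ stabilizer G y) = q := fun hxy =>
    h.card_stab_eq hxy hab
  have hDp : IsPGroup 2 D := fun d => ⟨1, Subtype.ext (by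
    show (d : G) ^ 2 ^ 1 = 1
    rw [pow_one, pow_two]; exact h.sq_eq_one hi hab d.2.1 d.2.2)⟩
  obtain ⟨β, hβ⟩ := IsPGroup.iff_card.1 hDp
  have hCp : IsPGroup 2 C := by
    rintro ⟨g, hg⟩
    obtain ⟨k, m, hm, hkm⟩ := Nat.exists_eq_two_pow_mul_odd (orderOf_pos g).ne'
    refine ⟨k, Subtype.ext ?_⟩
    show g ^ 2 ^ k = 1
    have ho : orderOf (g ^ 2 ^ k) = m := by
      rw [orderOf_pow' _ (pow_ne_zero k two_ne_zero), hkm, Nat.gcd_mul_right_left,
        Nat.mul_div_cancel_left _ (pow_pos two_pos k)]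
    have hc : Commute (g ^ 2 ^ k) t :=
      Commute.pow_left (show Commute g t from Subgroup.mem_centralizer_singleton_iff.1 hg) _
    have h2 := h.sq_eq_one hi hab (h.odd_fixes h.sq h.ne hc (ho ▸ hm) ha) (h.odd_fixes h.sq h.ne hc (ho ▸ hm) hb)
    have h3 : orderOf (g ^ 2 ^ k) ∣ 2 := orderOf_dvd_of_pow_eq_one (by rw [pow_two]; exact h2)
    rw [ho] at h3
    rcases (Nat.dvd_prime Nat.prime_two).1 h3 with e | e
    · exact orderOf_eq_one_iff.1 (ho.trans e)
    · rw [e] at hm; exact absurd hm (by decide)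
  obtain ⟨γ, hγ⟩ := IsPGroup.iff_card.1 hCp
  have hCi := h.card_cent_stab (by omega) ha
  obtain ⟨κ, -, hκ⟩ := (Nat.dvd_prime_pow Nat.prime_two).1 (show i ∣ 2 ^ γ from ⟨_, hγ.symm.trans hCi⟩)
  -- the count of involutions with an ordered pair of fixed points
  have hI := h.card_involutions
  rw [h.count.1, h.card_group hab] at hI
  rw [← hD, ← hq, ← hC] at hI
  set I := Nat.card {s : G // s * s = 1 ∧ s ≠ 1} with hIdef
  have hIpos : 0 < I := by
    haveI : Nonempty {s : G // s * s = 1 ∧ s ≠ 1} := ⟨⟨t, h.sq, h.ne⟩⟩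
    exact Nat.card_pos
  have hB : I * (i * (i - 1)) = Nat.card {p : Ω × Ω // p.1 ≠ p.2} * (q - 1) := by
    have e1 : Nat.card (Σ s : {s : G // s * s = 1 ∧ s ≠ 1},
        {p : Ω × Ω // ((s : G) • p.1 = p.1 ∧ (s : G) • p.2 = p.2) ∧ p.1 ≠ p.2}) = I * (i * (i - 1)) := by
      rw [Nat.card_sigma, Finset.sum_congr rfl (g := fun _ => i * (i - 1)) fun s _ => ?_,
        Finset.sum_const, Finset.card_univ, hIdef, Nat.card_eq_fintype_card, smul_eq_mul]
      let E : {p : Ω × Ω // ((s : G) • p.1 = p.1 ∧ (s : G) • p.2 = p.2) ∧ p.1 ≠ p.2} ≃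
          {p : {x : Ω // (s : G) • x = x} × {x : Ω // (s : G) • x = x} // p.1 ≠ p.2} :=
        { toFun := fun p => ⟨(⟨p.1.1, p.2.1.1⟩, ⟨p.1.2, p.2.1.2⟩), fun e => p.2.2 (congrArg Subtype.val e)⟩
          invFun := fun p => ⟨(p.1.1.1, p.1.2.1), ⟨p.1.1.2, p.1.2.2⟩, fun e => p.2 (Subtype.ext e)⟩
          left_inv := fun _ => rfl
          right_inv := fun _ => rfl }
      rw [Nat.card_congr E, Nat.card_eq_fintype_card, Fintype.card_subtype]
      have := Finset.univ (α := {x : Ω // (s : G) • x = x}).offDiag_card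
      rw [Finset.card_univ, ← Nat.card_eq_fintype_card, show Nat.card {x : Ω // (s : G) • x = x} = i from
        h.fix_involution s.2.1 s.2.2] at this
      rw [show (Finset.univ.filter fun p : {x : Ω // (s : G) • x = x} × {x : Ω // (s : G) • x = x} => p.1 ≠ p.2) =
        Finset.univ.offDiag by ext; simp, this]
      rw [Nat.mul_sub, mul_one]
    rw [← e1]
    let E2 : (Σ s : {s : G // s * s = 1 ∧ s ≠ 1},
        {p : Ω × Ω // ((s : G) • p.1 = p.1 ∧ (s : G) • p.2 = p.2) ∧ p.1 ≠ p.2}) ≃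
        (Σ p : {p : Ω × Ω // p.1 ≠ p.2}, {d : ↥(stabilizer G p.1.1 ⊓ stabilizer G p.1.2) // d ≠ 1}) :=
      { toFun := fun z => ⟨⟨z.2.1, z.2.2.2⟩, ⟨⟨z.1.1, z.2.2.1⟩, fun e => z.1.2.2 (congrArg Subtype.val e)⟩⟩
        invFun := fun z => ⟨⟨(z.2.1 : G), h.sq_eq_one hi z.1.2 z.2.1.2.1 z.2.1.2.2,
          fun e => z.2.2 (Subtype.ext e)⟩, ⟨z.1.1, ⟨z.2.1.2.1, z.2.1.2.2⟩, z.1.2⟩⟩
        left_inv := fun _ => rfl
        right_inv := fun _ => rfl }
    rw [Nat.card_congr E2, Nat.card_sigma, Finset.sum_congr rfl (g := fun _ => q - 1) fun p _ => ?_,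
      Finset.sum_const, Finset.card_univ, Nat.card_eq_fintype_card, smul_eq_mul]
    rw [Nat.card_eq_fintype_card, Fintype.card_subtype_compl, Fintype.card_subtype_eq,
      ← Nat.card_eq_fintype_card, hqd p.2]
  have key : q * (i * (i - 1)) = Nat.card C * (q - 1) := by
    refine Nat.eq_of_mul_eq_mul_left hIpos ?_
    calc I * (q * (i * (i - 1))) = q * (I * (i * (i - 1))) := by ring
      _ = Nat.card {p : Ω × Ω // p.1 ≠ p.2} * q * (q - 1) := by rw [hB]; ring
      _ = I * (Nat.card C * (q - 1)) := by rw [← hI]; ring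
  have hq2 : 2 ≤ q := by
    haveI : Nontrivial D := ⟨⟨t, ha, hb⟩, 1, fun e => h.ne (congrArg Subtype.val e)⟩
    exact Finite.one_lt_card
  have hβ0 : β ≠ 0 := by
    rintro rfl
    rw [pow_zero] at hβ
    omega
  have hκ0 : κ ≠ 0 := by
    rintro rfl
    rw [pow_zero] at hκ
    omega
  have hqo : Odd (q - 1) := by
    refine Nat.Even.sub_odd (by omega) ?_ odd_one
    rw [show q = 2 ^ β from hβ]
    exact (Nat.even_pow.2 ⟨even_two, hβ0⟩)
  have hio : Odd (i - 1) := by
    refine Nat.Even.sub_odd (by omega) ?_ odd_one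
    rw [hκ]
    exact (Nat.even_pow.2 ⟨even_two, hκ0⟩)
  obtain ⟨h2a, h2b⟩ := two_pow_mul_odd hio hqo (a := β + κ) (b := γ) (by
    rw [← hγ, ← key, pow_add, ← hκ, show 2 ^ β = q from hβ.symm]; ring)
  have hiq : i = q := by omega
  have hCq : Nat.card C = q * q := by
    rw [hγ, ← h2a, pow_add, show 2 ^ β = q from hβ.symm, ← hκ, hiq]
  have hn : Nat.card Ω = q * q + q := by
    have h1 := h.count.1
    have h2 := h.lt_card
    rw [← hC, hCq] at h1
    omega
  -- centralisers inside the point stabiliser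
  let W : G → Subgroup G := fun d => Subgroup.centralizer ({d} : Set G) ⊓ stabilizer G a
  have hW : ∀ d : G, d * d = 1 → d ≠ 1 → d • a = a → ∀ x : Ω, x ≠ a → d • x = x →
      W d = stabilizer G a ⊓ stabilizer G x := by
    intro d hd hd1 hda x hx hdx
    have hc := (h.change hd hd1).card_cent_stab (by omega) hda
    rw [← (h.change hd hd1).count.1, h.count.1, ← hC, hCq, hiq] at hc
    refine (Subgroup.eq_of_le_of_card_ge ?_ ?_).symm
    · intro e he
      obtain ⟨he1, he2⟩ := Subgroup.mem_inf.1 he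
      exact Subgroup.mem_inf.2 ⟨Subgroup.mem_centralizer_singleton_iff.2
        (h.commute_fixing (Ne.symm hx) he1 he2 hda hdx).eq, he1⟩
    · rw [hqd (Ne.symm hx), ← Nat.eq_of_mul_eq_mul_left (by omega) hc]
  let Ia := {d : G // (d * d = 1 ∧ d ≠ 1) ∧ d • a = a}
  have hB2 : Nat.card Ia * (i - 1) = (Nat.card Ω - 1) * (q - 1) := by
    let E3 : (Σ d : Ia, {x : Ω // (d : G) • x = x ∧ x ≠ a}) ≃
        (Σ x : {x : Ω // x ≠ a}, {d : ↥(stabilizer G a ⊓ stabilizer G x.1) // d ≠ 1}) :=
      { toFun := fun z => ⟨⟨z.2.1, z.2.2.2⟩, ⟨⟨z.1.1, z.1.2.2, z.2.2.1⟩, fun e => z.1.2.1.2 (congrArg Subtype.val e)⟩⟩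
        invFun := fun z => ⟨⟨(z.2.1 : G), ⟨h.sq_eq_one hi (Ne.symm z.1.2) z.2.1.2.1 z.2.1.2.2,
          fun e => z.2.2 (Subtype.ext e)⟩, z.2.1.2.1⟩, ⟨z.1.1, z.2.1.2.2, z.1.2⟩⟩
        left_inv := fun _ => rfl
        right_inv := fun _ => rfl }
    have e := Nat.card_congr E3
    have f1 : ∀ d : Ia, Nat.card {x : Ω // (d : G) • x = x ∧ x ≠ a} = i - 1 := fun d => by
      rw [Nat.card_eq_fintype_card, Fintype.card_subtype]
      have e2 : fix Ω (d : G) = i := h.fix_involution d.2.1.1 d.2.1.2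
      rw [fix, Nat.card_eq_fintype_card, Fintype.card_subtype] at e2
      rw [show (Finset.univ.filter fun x : Ω => (d : G) • x = x ∧ x ≠ a) =
        (Finset.univ.filter fun x : Ω => (d : G) • x = x).erase a by ext; simp [and_comm],
        Finset.card_erase_of_mem (by simp [d.2.2]), e2]
    have f2 : ∀ x : {x : Ω // x ≠ a},
        Nat.card {d : ↥(stabilizer G a ⊓ stabilizer G x.1) // d ≠ 1} = q - 1 := fun x => by
      rw [Nat.card_eq_fintype_card, Fintype.card_subtype_compl, Fintype.card_subtype_eq,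
        ← Nat.card_eq_fintype_card, hqd (Ne.symm x.2)]
    simp only [Nat.card_sigma, f1, f2, Finset.sum_const, Finset.card_univ, smul_eq_mul,
      Fintype.card_subtype_compl, Fintype.card_subtype_eq] at e
    rw [Nat.card_eq_fintype_card, Nat.card_eq_fintype_card]; exact e
  have hIa : Nat.card Ia = Nat.card Ω - 1 := by
    rw [hiq] at hB2
    exact Nat.eq_of_mul_eq_mul_right (by omega) hB2
  have hWd : ∀ d : Ia, ∃ x : Ω, x ≠ a ∧ (d : G) • x = x := by
    intro d
    obtain ⟨x, y, hxy, hx, hy⟩ := exists_two_fixed (g := (d : G)) (Ω := Ω)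
      (by rw [h.fix_involution d.2.1.1 d.2.1.2]; omega)
    by_cases hxa : x = a
    · exact ⟨y, fun e => hxy (hxa.trans e.symm), hy⟩
    · exact ⟨x, hxa, hx⟩
  have hfib : ∀ d : Ia, Nat.card {e : Ia // W e = W d} = q - 1 := by
    intro d
    obtain ⟨x, hx, hdx⟩ := hWd d
    have hd := hW d d.2.1.1 d.2.1.2 d.2.2 x hx hdx
    have hiff : ∀ e : Ia, W e = W d ↔ (e : G) • x = x := by
      intro e
      refine ⟨fun he => ?_, fun he => ?_⟩
      · have hm : (e : G) ∈ W e := Subgroup.mem_inf.2 ⟨Subgroup.mem_centralizer_singleton_iff.2 rfl, e.2.2⟩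
        rw [he, hd] at hm
        exact (Subgroup.mem_inf.1 hm).2
      · rw [hd, hW e e.2.1.1 e.2.1.2 e.2.2 x hx he]
    rw [Nat.card_congr ((Equiv.subtypeEquivRight hiff).trans
      { toFun := fun z => (⟨⟨z.1.1, z.1.2.2, z.2⟩, fun e => z.1.2.1.2 (congrArg Subtype.val e)⟩ :
          {d : ↥(stabilizer G a ⊓ stabilizer G x) // d ≠ 1})
        invFun := fun z => ⟨⟨(z.1 : G), ⟨h.sq_eq_one hi (Ne.symm hx) z.1.2.1 z.1.2.2,
          fun e => z.2 (Subtype.ext e)⟩, z.1.2.1⟩, z.1.2.2⟩
        left_inv := fun _ => rfl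
        right_inv := fun _ => rfl }),
      Nat.card_eq_fintype_card, Fintype.card_subtype_compl, Fintype.card_subtype_eq,
      ← Nat.card_eq_fintype_card, hqd (Ne.symm hx)]
  have hdvd : q - 1 ∣ Nat.card Ia := by
    rw [Nat.card_eq_fintype_card, ← Finset.card_univ,
      Finset.card_eq_sum_card_fiberwise (f := fun d : Ia => W d)
        (t := Finset.univ.image fun d : Ia => W d) fun d hd => Finset.mem_image_of_mem _ (Finset.mem_univ d)]
    refine Finset.dvd_sum fun S hS => ?_
    obtain ⟨d, -, rfl⟩ := Finset.mem_image.1 hS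
    have := hfib d
    rw [Nat.card_eq_fintype_card, Fintype.card_subtype] at this
    rw [← this]
  rw [hIa, hn] at hdvd
  obtain ⟨p, hp⟩ : ∃ p, q = p + 1 := ⟨q - 1, by omega⟩
  rw [hp] at hdvd
  have e : (p + 1) * (p + 1) + (p + 1) - 1 = p * (p + 3) + 1 := by
    have : (p + 1) * (p + 1) + (p + 1) = p * (p + 3) + 2 := by ring
    omega
  rw [e, Nat.add_sub_cancel] at hdvd
  have hp1 : p = 1 := Nat.dvd_one.1 ((Nat.dvd_add_right (dvd_mul_right p _)).1 hdvd)
  omega

/-- With two fixed points: the degree and the fixed points of centralising elements. -/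
theorem two_case (hi : i = 2) {a b : Ω} (hab : a ≠ b) (ha : t • a = a) (hb : t • b = b) :
    Nat.card Ω = 2 * Nat.card ↥(stabilizer G a ⊓ stabilizer G b) + 2 := by
  classical
  have hCi := h.card_cent_stab (by omega) ha
  have hset : ∀ x : Ω, t • x = x → x = a ∨ x = b := by
    intro x hx
    by_contra hno
    push Not at hno
    have h3 : 3 ≤ fix Ω t := by
      haveI := Fintype.ofFinite Ω
      rw [fix, Nat.card_eq_fintype_card, Fintype.card_subtype]
      refine le_trans (le_of_eq (Finset.card_eq_three.2 ⟨a, b, x, hab, hno.1.symm, hno.2.symm, rfl⟩).symm)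
        (Finset.card_le_card fun z hz => ?_)
      simp only [Finset.mem_insert, Finset.mem_singleton] at hz
      rcases hz with rfl | rfl | rfl <;> simp [ha, hb, hx]
    rw [h.fix_t] at h3
    omega
  have hs : Subgroup.centralizer ({t} : Set G) ⊓ stabilizer G a = stabilizer G a ⊓ stabilizer G b := by
    ext c
    constructor
    · intro hc
      obtain ⟨hc1, hc2⟩ := Subgroup.mem_inf.1 hc
      refine Subgroup.mem_inf.2 ⟨hc2, ?_⟩
      have hcb : t • c • b = c • b := by
        rw [smul_smul, ← Subgroup.mem_centralizer_singleton_iff.1 hc1, mul_smul, hb]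
      rcases hset _ hcb with e | e
      · exact absurd (MulAction.injective c (e.trans (hc2 : c • a = a).symm)) hab.symm
      · exact e
    · intro hc
      obtain ⟨hc1, hc2⟩ := Subgroup.mem_inf.1 hc
      exact Subgroup.mem_inf.2 ⟨Subgroup.mem_centralizer_singleton_iff.2
        (h.commute_fixing hab hc1 hc2 ha hb).eq, hc1⟩
  rw [hs, hi] at hCi
  have h1 := h.count.1
  have h2 := h.lt_card
  omega

end Hyp

end Cfsg.Agent.InvCentFix
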