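import Cfsg.Agent.Lib.Lie.SuzukiUnique.Main
import Cfsg.Agent.S0731
import Cfsg.Agent.S0738
import Cfsg.Agent.S0742

/-!
# Zassenhaus groups with odd two-point stabilisers
-/

set_option autoImplicit false
set_option linter.style.haveILetI false

namespace Cfsg.Agent.InvCentFix

open MulAction Cfsg.Agent.Lie

universe u v

theorem triple_injective {α : Type*} {a b x : α} (hab : a ≠ b) (hxa : x ≠ a) (hxb : x ≠ b) :
    Function.Injective ![a, b, x] := by
  intro i j e
  fin_cases i <;> fin_cases j <;> first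
    | rfl
    | exact absurd e hab
    | exact absurd e.symm hab
    | exact absurd e hxa
    | exact absurd e.symm hxa
    | exact absurd e hxb
    | exact absurd e.symm hxb

/-- A Zassenhaus group with two-point stabilisers of odd order is `PSL₂` or a Suzuki group. -/
theorem zassenhaus_odd {G : Type u} {Ω : Type v} [Group G] [Finite G] [MulAction G Ω] [Fintype Ω]
    (hZ : Cfsg.IsZassenhausGroup G Ω) {a b : Ω} (hab : a ≠ b)
    (hodd : Odd (Nat.card ↥(stabilizer G a ⊓ stabilizer G b))) :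
    (∃ (F : Type) (_ : Field F) (_ : Fintype F), Nonempty (G ≃* Matrix.ProjectiveSpecialLinearGroup (Fin 2) F)) ∨
      Cfsg.Lie.IsoSuzuki G := by
  classical
  obtain ⟨hF, h2, h3, hfix, -⟩ := id hZ
  haveI := hF
  obtain ⟨g, hg1, hga, hgb⟩ := Zassenhaus.exists_fix_pair h2 hfix hab
  obtain ⟨K, -, hKa, hKt, hKf, hKn⟩ :=
    Zassenhaus.kernel_le h2 h3 hfix ⊤ hab (Subgroup.mem_top g) hg1 hga hgb
  have hKle : K ≤ stabilizer G a := fun k hk => hKa k hk
  have horb : ∀ c : Ω, c ≠ a → ∃! u : K, (u : G) • b = c := by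
    intro c hc
    obtain ⟨k, hk, hkc⟩ := hKt c hc
    refine ⟨⟨k, hk⟩, hkc, fun u hu => Subtype.ext ?_⟩
    exact (inv_mul_eq_one.1 (hKf (k⁻¹ * u) (mul_mem (inv_mem hk) u.2) (by rw [mul_smul, hu, inv_smul_eq_iff, hkc]))).symm
  have hreg : ∀ y z : Ω, y ≠ a → z ≠ a → ∃! u : K, (u : G) • y = z := by
    intro y z hy hz
    obtain ⟨u, hu, huu⟩ := horb y hy
    obtain ⟨w, hw, hwu⟩ := horb z hz
    refine ⟨w * u⁻¹, show ((w : G) * (u : G)⁻¹) • y = z by rw [mul_smul, ← hu, inv_smul_smul, hw], fun v hv => ?_⟩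
    exact eq_mul_inv_of_mul_eq (hwu (v * u) (show ((v : G) * (u : G)) • b = z by rw [mul_smul, hu]; exact hv))
  obtain ⟨hcard, honly⟩ := ZassenhausSuzuki.kernel_of_regular (a := a) ⟨b, hab.symm⟩ K hKle hreg
  have hnormal : (K.subgroupOf (stabilizer G a)).Normal := by
    refine ⟨fun x hx s => ?_⟩
    have hsa : (s : G) • a = a := s.2
    obtain ⟨k, hk, hkb⟩ := hKt ((s : G) • b)
      fun e => hab (MulAction.injective (s : G) (e.trans hsa.symm)).symm
    have h1 : (k⁻¹ * (s : G)) • a = a := by rw [mul_smul, hsa, inv_smul_eq_iff, hKa k hk]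
    have h2' : (k⁻¹ * (s : G)) • b = b := by rw [mul_smul, inv_smul_eq_iff, hkb]
    have h4 := mul_mem (mul_mem hk (hKn _ h1 h2' _ (Subgroup.mem_subgroupOf.1 hx))) (inv_mem hk)
    rw [Subgroup.mem_subgroupOf]
    convert h4 using 1
    simp [mul_assoc]
  obtain ⟨x, hxa, hxb⟩ := Zassenhaus.three_le_card (G := G) hfix hab
  have hthree : 3 ≤ Fintype.card Ω := by
    have h1 : ({a, b, x} : Finset Ω).card = 3 := Finset.card_eq_three.2 ⟨a, b, x, hab, hxa.symm, hxb.symm, rfl⟩
    have := Finset.card_le_univ ({a, b, x} : Finset Ω)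
    omega
  obtain ⟨k, hk⟩ := Feit.stab_dvd (G := G) h3 hab
  set e := Nat.card ↥(stabilizer G a ⊓ stabilizer G b) with he
  rcases Feit.feit_inequality hZ hab (h := Fintype.card Ω - 1) (by omega) rfl hodd hKle hcard honly
    with hsmall | ⟨hp, hna, -⟩
  · left
    rcases k with _ | _ | _ | k
    · omega
    · -- sharply three-transitive
      simp only [zero_add, mul_one] at hk
      obtain ⟨j, hj⟩ := hodd
      haveI := Zassenhaus.isSimple_of_odd hZ (Nat.odd_iff.2 (by omega))
      exact ZassenhausOddHalf.psl_of_sharp_odd hZ hab ⟨j, hj⟩ (by omega)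
    · obtain ⟨hab', -⟩ := Cfsg.Agent.S0738.result hZ hab (by omega) K hKle hnormal hreg
      rcases Cfsg.Agent.S0731.result hZ a K hKle hnormal hab' hreg with ⟨h3t, -⟩ | ⟨F, iF, iFF, -, hiso⟩
      · exfalso
        -- the two-point stabiliser would be transitive on the other points
        have hsur : Function.Surjective (fun d : ↥(stabilizer G a ⊓ stabilizer G b) =>
            (⟨(d : G) • x, fun e => hxa (MulAction.injective (d : G) (e.trans d.2.1.symm)),
              fun e => hxb (MulAction.injective (d : G) (e.trans d.2.2.symm))⟩ : {y : Ω // y ≠ a ∧ y ≠ b})) := by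
          rintro ⟨y, hya, hyb⟩
          obtain ⟨d, hd⟩ := h3t.exists_smul_eq
            (⟨![a, b, x], triple_injective hab hxa hxb⟩ : Fin 3 ↪ Ω)
            ⟨![a, b, y], triple_injective hab hya hyb⟩
          have e0 := congrArg (fun f : Fin 3 ↪ Ω => f 0) hd
          have e1 := congrArg (fun f : Fin 3 ↪ Ω => f 1) hd
          have e2 := congrArg (fun f : Fin 3 ↪ Ω => f 2) hd
          exact ⟨⟨d, e0, e1⟩, Subtype.ext e2⟩
        have h5 := Nat.card_le_card_of_surjective _ hsur
        rw [Nat.card_eq_fintype_card (α := {y : Ω // y ≠ a ∧ y ≠ b}), Fintype.card_subtype,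
          show (Finset.univ.filter fun y : Ω => y ≠ a ∧ y ≠ b) = ({a, b} : Finset Ω)ᶜ by ext; simp,
          Finset.card_compl, Finset.card_pair hab, ← he, hk] at h5
        have : 0 < e := Nat.card_pos
        omega
      · exact ⟨F, iF, iFF, hiso⟩
    · exfalso
      have h6 : e * 3 ≤ e * (k + 1 + 1 + 1) := Nat.mul_le_mul_left _ (by omega)
      rw [← hk] at h6
      obtain ⟨j, hj⟩ := hodd
      omega
  · right
    haveI : Fact (Nat.Prime 2) := ⟨Nat.prime_two⟩
    obtain ⟨j, hj⟩ := IsPGroup.iff_card.1 hp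
    have hoddΩ : Odd (Fintype.card Ω) := by
      have hj0 : j ≠ 0 := by
        rintro rfl
        rw [pow_zero] at hj
        omega
      rw [← hcard, hj]
      exact (Nat.even_pow.2 ⟨even_two, hj0⟩).add_one
    haveI := Zassenhaus.isSimple_of_odd hZ hoddΩ
    exact SuzukiUnique.iso_suzuki hZ hab K hKle hcard honly hp hna

end Cfsg.Agent.InvCentFix
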