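import Cfsg.Agent.Lib.Perm.InvCentFix.Small
import Cfsg.Agent.Lib.Perm.InvCentFix.Zass
import Cfsg.Agent.Lib.Perm.Sharp2
import Cfsg.Agent.Lib.Perm.Primitive
import Cfsg.Agent.Lib.Solv.TwoSizeRegular.Main
import Cfsg.Agent.Lib.OddChar.FT.NoMinimal
import Cfsg.Agent.Lib.OddChar.FT.Final
import Cfsg.Agent.S0215

/-!
# The classification
-/

set_option autoImplicit false
set_option linter.style.haveILetI false

namespace Cfsg.Agent.InvCentFix

open MulAction

universe u v

variable {G : Type u} {Ω : Type v} [Group G] [MulAction G Ω] [Finite G]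

omit [Finite G] in
/-- An abelian transitive subgroup of a faithful action is semiregular. -/
theorem semiregular_of_abelian [FaithfulSMul G Ω] {A : Subgroup G}
    (hc : ∀ x ∈ A, ∀ y ∈ A, x * y = y * x) [IsPretransitive A Ω] :
    ∀ x : Ω, ∀ r ∈ A, r • x = x → r = 1 := by
  intro x r hr hrx
  refine eq_of_smul_eq_smul fun y : Ω => ?_
  obtain ⟨⟨b, hb⟩, rfl⟩ := exists_smul_eq A x y
  show r • b • x = (1 : G) • b • x
  rw [one_smul, smul_smul, hc r hr b hb, mul_smul, hrx]

variable [Fintype Ω]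

/-- With one fixed point and no pair of commuting involutions there is a regular normal subgroup. -/
theorem rank_one {t : G} (h : Hyp G Ω t 1)
    (hno : ∀ u w : G, u * u = 1 → u ≠ 1 → w * w = 1 → w ≠ 1 → Commute u w → u = w) :
    ∃ R : Subgroup G, R.Normal ∧ (∀ x y : Ω, ∃ r ∈ R, r • x = y) ∧ ∀ x : Ω, ∀ r ∈ R, r • x = x → r = 1 := by
  haveI := h.faithful
  haveI : Fact (Nat.Prime 2) := ⟨Nat.prime_two⟩
  have htwo : orderOf t = 2 := orderOf_eq_prime (by rw [pow_two, h.sq]) h.ne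
  obtain ⟨P, hP⟩ := (IsPGroup.of_card (p := 2) (n := 1)
    (by rw [Nat.card_zpowers, htwo, pow_one]) : IsPGroup 2 (Subgroup.zpowers t)).exists_le_sylow
  have htP : t ∈ (P : Subgroup G) := hP (Subgroup.mem_zpowers t)
  obtain ⟨z, hz, hzc⟩ : ∃ z : G, orderOf z = 2 ∧ ∀ y ∈ (P : Subgroup G), Commute z y := by
    haveI : Nontrivial ↥(P : Subgroup G) := ⟨⟨t, htP⟩, 1, fun e => h.ne (congrArg Subtype.val e)⟩
    haveI := P.isPGroup'.center_nontrivial
    obtain ⟨w, hw⟩ := exists_prime_orderOf_dvd_card' (G := ↥(Subgroup.center ↥(P : Subgroup G))) 2 (by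
      obtain ⟨n, hn⟩ := IsPGroup.iff_card.1 (P.isPGroup'.to_subgroup (Subgroup.center ↥(P : Subgroup G)))
      rw [hn]
      refine dvd_pow_self 2 fun h0 => ?_
      rw [h0, pow_zero] at hn
      exact absurd (Nat.card_eq_one_iff_unique.1 hn).1 (not_subsingleton _))
    rw [← Subgroup.orderOf_coe, ← Subgroup.orderOf_coe] at hw
    exact ⟨_, hw, fun y hy => (congrArg Subtype.val (Subgroup.mem_center_iff.1 w.2 ⟨y, hy⟩)).symm⟩
  have hzz : z * z = 1 := by rw [← pow_two, ← hz, pow_orderOf_eq_one]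
  have hz1 : z ≠ 1 := fun e => by rw [e, orderOf_one] at hz; omega
  obtain ⟨N, hN, hNodd, hNc⟩ := Cfsg.Agent.S0215.result P t htwo htP fun g hg => by
    have hs : g * t * g⁻¹ * (g * t * g⁻¹) = 1 := by
      rw [show g * t * g⁻¹ * (g * t * g⁻¹) = g * (t * t) * g⁻¹ by group, h.sq]; group
    rw [← hno z _ hzz hz1 hs (fun e => h.ne (conj_eq_one_iff.1 e)) (hzc _ hg)]
    exact hno z t hzz hz1 h.sq h.ne (hzc _ htP)
  haveI := hN
  have hN1 : N ≠ ⊥ := by
    intro e
    have hone : fix Ω t = 1 := h.fix_t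
    obtain ⟨hsub, ⟨⟨a, ha⟩⟩⟩ := Nat.card_eq_one_iff_unique.1 hone
    obtain ⟨x, hx⟩ := moved_of_ne_one (Ω := Ω) h.ne
    have hxa : a ≠ x := fun e => hx (e ▸ ha)
    obtain ⟨g, hg, -⟩ := h.two a x x a hxa hxa.symm
    have hc := hNc g
    rw [e, Subgroup.mem_bot] at hc
    have hfix : t • g • a = g • a := by
      have h1 : t * g = g * t := by
        calc t * g = (t * g * t⁻¹ * g⁻¹) * (g * t) := by group
          _ = g * t := by rw [hc, one_mul]
      rw [smul_smul, h1, mul_smul, ha]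
    have e2 : g • a = a := congrArg Subtype.val (hsub.elim ⟨g • a, hfix⟩ ⟨a, ha⟩)
    exact hxa (e2.symm.trans hg)
  have hsol : Group.IsSolvable ↥N :=
    Cfsg.Agent.OddFT.odd_solvable_of_no_min Cfsg.Agent.OddFT.no_minSimple hNodd
  obtain ⟨p, A, hp, hA, hA1, -, hAp⟩ := Cfsg.Agent.Solv.TwoSizeRegular.exists_elementary_normal_le hN1 hsol
  haveI := hA
  haveI : Fact p.Prime := ⟨hp⟩
  haveI : Nontrivial ↥A := (Subgroup.nontrivial_iff_ne_bot A).2 hA1
  have hAg : IsPGroup p ↥A := fun x => ⟨1, Subtype.ext (by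
    show (x : G) ^ p ^ 1 = 1
    rw [pow_one]; exact hAp x x.2)⟩
  haveI := hAg.center_nontrivial
  set Z := (Subgroup.center ↥A).map A.subtype with hZdef
  have hZ1 : Z ≠ ⊥ := fun e => by
    have := (Subgroup.map_eq_bot_iff_of_injective _ (Subgroup.subtype_injective A)).1 e
    exact (Subgroup.nontrivial_iff_ne_bot _).1 inferInstance this
  haveI : IsPretransitive G Ω := by
    haveI h2 : IsMultiplyPretransitive G Ω 2 :=
      is_two_pretransitive_iff.2 fun {x₁ x₂ y₁ y₂} hx hy => h.two _ _ _ _ hx hy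
    exact isPretransitive_of_is_two_pretransitive
  haveI : IsPreprimitive G Ω := isPreprimitive_of_is_two_pretransitive
    (is_two_pretransitive_iff.2 fun {x₁ x₂ y₁ y₂} hx hy => h.two _ _ _ _ hx hy)
  haveI : Z.Normal := inferInstanceAs ((Subgroup.center ↥A).map A.subtype).Normal
  haveI hZt : IsPretransitive Z Ω := Cfsg.Agent.Perm.normal_isPretransitive Z hZ1
  refine ⟨Z, inferInstance, fun x y => ?_, semiregular_of_abelian ?_⟩
  · obtain ⟨r, hr⟩ := exists_smul_eq Z x y
    exact ⟨r, r.2, hr⟩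
  · rintro _ ⟨u, hu, rfl⟩ _ ⟨w, -, rfl⟩
    exact congrArg Subtype.val (Subgroup.mem_center_iff.1 hu w).symm

/-- The classification. -/
theorem main {t : G} {i : ℕ} (h : Hyp G Ω t i) :
    (∃ (F : Type) (_ : Field F) (_ : Fintype F), Nonempty (G ≃* Matrix.ProjectiveSpecialLinearGroup (Fin 2) F)) ∨
    Cfsg.Lie.IsoSuzuki G ∨
    (∃ R : Subgroup G, R.Normal ∧ (∀ x y : Ω, ∃ r ∈ R, r • x = y) ∧ ∀ x : Ω, ∀ r ∈ R, r • x = x → r = 1) := by
  classical
  haveI := h.faithful
  by_cases hreg : ∃ R : Subgroup G, R.Normal ∧ (∀ x y : Ω, ∃ r ∈ R, r • x = y) ∧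
      ∀ x : Ω, ∀ r ∈ R, r • x = x → r = 1
  · exact Or.inr (Or.inr hreg)
  obtain ⟨a, ha⟩ := moved_of_ne_one (Ω := Ω) h.ne
  have hab : a ≠ t • a := Ne.symm ha
  have h2 : IsMultiplyPretransitive G Ω 2 := is_two_pretransitive_iff.2 fun {x₁ x₂ y₁ y₂} hx hy => h.two _ _ _ _ hx hy
  have hD : ∃ g : G, g ≠ 1 ∧ ∃ x y : Ω, x ≠ y ∧ g • x = x ∧ g • y = y := by
    by_contra hno
    push Not at hno
    obtain ⟨K, hKn, hK, hKt, -⟩ := Cfsg.Agent.Perm.sharp2_kernel (G := G) (Ω := Ω)
      (by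
        haveI : Nontrivial Ω := ⟨⟨a, t • a, hab⟩⟩
        exact Finite.one_lt_card)
      (fun a b c d => h.two a b c d) fun x y hxy g hx hy => by
        by_contra hg
        exact hno g hg x y hxy hx hy
    refine hreg ⟨K, hKn, hKt, fun x r hr hrx => ?_⟩
    rcases (hK r).1 hr with e | e
    · exact e
    · exact absurd hrx (e x)
  have hlast : ∀ N : Subgroup G, N.Normal → IsPretransitive N Ω → ∃ x : Ω, stabilizer N x ≠ ⊥ := by
    intro N hN ht
    by_contra hno
    push Not at hno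
    refine hreg ⟨N, hN, fun x y => ?_, fun x r hr hrx => ?_⟩
    · obtain ⟨r, hr⟩ := exists_smul_eq N x y
      exact ⟨r, r.2, hr⟩
    · exact congrArg Subtype.val ((Subgroup.eq_bot_iff_forall _).1 (hno x) ⟨r, hr⟩ hrx)
  have hzass : ∀ h3 : (∀ g : G, ∀ a b c : Ω, a ≠ b → b ≠ c → a ≠ c →
      g • a = a → g • b = b → g • c = c → g = 1), Cfsg.IsZassenhausGroup G Ω :=
    fun h3 => ⟨h.faithful, h2, h3, hD, hlast⟩
  rcases Nat.lt_or_ge i 2 with hi | hi
  · have hpair : i = 1 → ∃ u w : G, u * u = 1 ∧ u ≠ 1 ∧ w * w = 1 ∧ w ≠ 1 ∧ u ≠ w ∧ Commute u w := by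
      intro hi1
      by_contra hno
      push Not at hno
      refine hreg (rank_one (hi1 ▸ h) fun u w hu hu1 hw hw1 hc => ?_)
      by_contra huw
      exact hno u w hu hu1 hw hw1 huw hc
    have hodd : Odd (Nat.card ↥(stabilizer G a ⊓ stabilizer G (t • a))) := by
      haveI : Fact (Nat.Prime 2) := ⟨Nat.prime_two⟩
      by_contra he
      rw [Nat.not_odd_iff_even, even_iff_two_dvd] at he
      obtain ⟨v, hv⟩ := exists_prime_orderOf_dvd_card' 2 he
      rw [← Subgroup.orderOf_coe] at hv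
      have e := h.fix_involution (s := (v : G)) (by rw [← pow_two, ← hv, pow_orderOf_eq_one])
        (fun e => by rw [e, orderOf_one] at hv; omega)
      have := two_le_fix hab v.2.1 v.2.2
      omega
    rcases zassenhaus_odd (hzass fun g x y z hxy hyz hxz hx hy hz =>
      h.no_three (by omega) hpair hxy hxz hyz hx hy hz) hab hodd with e | e
    · exact Or.inl e
    · exact Or.inr (Or.inl e)
  · have hi2 : i = 2 := le_antisymm h.le_two hi
    have h3 : ∀ g : G, ∀ a b c : Ω, a ≠ b → b ≠ c → a ≠ c →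
        g • a = a → g • b = b → g • c = c → g = 1 := by
      intro g x y z hxy hyz hxz hx hy hz
      by_contra hg
      obtain ⟨u, hu, hu1, hux, huy⟩ := h.exists_involution_fixing hi hxy
      have e := (h.change hu hu1).cent g (h.commute_fixing hxy hx hy hux huy) hg
      have h3 : 3 ≤ fix Ω g := by
        rw [fix, Nat.card_eq_fintype_card, Fintype.card_subtype]
        refine le_trans (le_of_eq (Finset.card_eq_three.2 ⟨x, y, z, hxy, hxz, hyz, rfl⟩).symm)
          (Finset.card_le_card fun w hw => ?_)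
        simp only [Finset.mem_insert, Finset.mem_singleton] at hw
        rcases hw with rfl | rfl | rfl <;> simp [hx, hy, hz]
      omega
    obtain ⟨x, y, hxy, hx, hy⟩ := exists_two_fixed (g := t) (Ω := Ω) (by rw [h.fix_t]; omega)
    have hn := h.two_case hi2 hxy hx hy
    rw [Nat.card_eq_fintype_card] at hn
    have heven : Even (Nat.card ↥(stabilizer G x ⊓ stabilizer G y)) := by
      rw [even_iff_two_dvd, ← show orderOf (⟨t, hx, hy⟩ : ↥(stabilizer G x ⊓ stabilizer G y)) = 2 from by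
        rw [← Subgroup.orderOf_coe]; exact orderOf_eq_prime (by rw [pow_two, h.sq]) h.ne]
      exact orderOf_dvd_natCard _
    obtain ⟨p, f, K, iK, iKF, -, -, -, -, hiso⟩ := Cfsg.Agent.S0742.result (hzass h3) hxy heven (by omega)
    left
    exact ⟨K, iK, iKF, hiso⟩

end Cfsg.Agent.InvCentFix
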