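import Cfsg.Agent.Lib.Perm.InvCentFix.Large

/-!
# At most one fixed point: only the identity fixes three points
-/

set_option autoImplicit false
set_option linter.style.haveILetI false
set_option linter.unusedSectionVars false

namespace Cfsg.Agent.InvCentFix

open MulAction

universe u v

variable {G : Type u} {Ω : Type v} [Group G] [MulAction G Ω] [Finite Ω] [Finite G]

/-- An involutory permutation of an odd set fixes a point. -/
theorem exists_fixed_of_odd {α : Type*} [Finite α] (σ : Equiv.Perm α) (hσ : σ * σ = 1)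
    (hodd : Odd (Nat.card α)) : ∃ x : α, σ x = x := by
  classical
  haveI := Fintype.ofFinite α
  haveI : Fact (Nat.Prime 2) := ⟨Nat.prime_two⟩
  rw [Nat.card_eq_fintype_card, ← Nat.not_even_iff_odd, even_iff_two_dvd] at hodd
  exact Equiv.Perm.exists_fixed_point_of_prime (p := 2) (n := 1) hodd (by rw [pow_one, pow_two, hσ])

namespace Hyp

variable {t : G} {i : ℕ} (h : Hyp G Ω t i)

include h

theorem card_involutions_at (hi : i = 1) (c : Ω) {x y : Ω} (hxy : x ≠ y) :
    Nat.card {s : G // (s * s = 1 ∧ s ≠ 1) ∧ s • c = c} =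
      Nat.card ↥(stabilizer G x ⊓ stabilizer G y) := by
  classical
  haveI := Fintype.ofFinite Ω
  haveI := Fintype.ofFinite G
  have hI := h.card_involutions
  rw [h.card_group hxy, h.card_offdiag, hi] at hI
  have hconst : ∀ c' : Ω, Nat.card {s : G // (s * s = 1 ∧ s ≠ 1) ∧ s • c' = c'} =
      Nat.card {s : G // (s * s = 1 ∧ s ≠ 1) ∧ s • c = c} := by
    intro c'
    obtain ⟨z, hz⟩ : ∃ z : Ω, z ≠ c := by
      by_cases hx : x = c
      · exact ⟨y, fun e => hxy (hx.trans e.symm)⟩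
      · exact ⟨x, hx⟩
    obtain ⟨z', hz'⟩ : ∃ z' : Ω, z' ≠ c' := by
      by_cases hx : x = c'
      · exact ⟨y, fun e => hxy (hx.trans e.symm)⟩
      · exact ⟨x, hx⟩
    obtain ⟨g, hg, -⟩ := h.two c z c' z' (Ne.symm hz) (Ne.symm hz')
    refine (Nat.card_congr ((MulAut.conj g).toEquiv.subtypeEquiv fun s => ?_)).symm
    show _ ↔ ((g * s * g⁻¹) * (g * s * g⁻¹) = 1 ∧ g * s * g⁻¹ ≠ 1) ∧ (g * s * g⁻¹) • c' = c'
    rw [show g * s * g⁻¹ * (g * s * g⁻¹) = g * (s * s) * g⁻¹ by group, conj_eq_one_iff, Ne, Ne,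
      conj_eq_one_iff, mul_smul, mul_smul, ← hg, inv_smul_smul, smul_left_cancel_iff]
  let E : {s : G // s * s = 1 ∧ s ≠ 1} ≃ Σ c' : Ω, {s : G // (s * s = 1 ∧ s ≠ 1) ∧ s • c' = c'} :=
    { toFun := fun s =>
        have hne : Nonempty {x : Ω // (s : G) • x = x} :=
          (Finite.card_pos_iff).1 (by
            have e : fix Ω (s : G) = 1 := (h.fix_involution s.2.1 s.2.2).trans hi
            rw [fix] at e
            omega)
        ⟨hne.some.1, ⟨s.1, s.2, hne.some.2⟩⟩
      invFun := fun p => ⟨p.2.1, p.2.2.1⟩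
      left_inv := fun _ => rfl
      right_inv := fun p => by
        obtain ⟨c', s, hs, hc'⟩ := p
        have e : fix Ω s = 1 := (h.fix_involution hs.1 hs.2).trans hi
        obtain ⟨hsub, -⟩ := Nat.card_eq_one_iff_unique.1 e
        refine Sigma.subtype_ext ?_ rfl
        exact congrArg Subtype.val (hsub.elim _ ⟨c', hc'⟩) }
  rw [Nat.card_congr E, Nat.card_sigma] at hI
  simp only [hconst, Finset.sum_const, Finset.card_univ, smul_eq_mul] at hI
  rw [← Nat.card_eq_fintype_card] at hI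
  have hn := Finite.one_lt_card_iff_nontrivial.2 (⟨⟨x, y, hxy⟩⟩ : Nontrivial Ω)
  refine Nat.eq_of_mul_eq_mul_left (show 0 < Nat.card Ω * (Nat.card Ω - 1) from Nat.mul_pos (by omega) (by omega)) ?_
  rw [← hI]
  ring

/-- Only the identity fixes three points. -/
theorem no_three (hi : i ≤ 1)
    (hpair : i = 1 → ∃ u w : G, u * u = 1 ∧ u ≠ 1 ∧ w * w = 1 ∧ w ≠ 1 ∧ u ≠ w ∧ Commute u w)
    {d : G} {x y z : Ω} (hxy : x ≠ y) (hxz : x ≠ z) (hyz : y ≠ z)
    (hdx : d • x = x) (hdy : d • y = y) (hdz : d • z = z) : d = 1 := by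
  classical
  by_contra hd1
  haveI := Fintype.ofFinite Ω
  haveI := Fintype.ofFinite G
  have hd : d * d ≠ 1 := by
    intro hsq
    have := h.fix_involution hsq hd1
    have := two_le_fix hxy hdx hdy
    omega
  set F := {w : Ω // d • w = w} with hF
  -- the centraliser has odd order
  have hCodd : ∀ v : G, v * v = 1 → v ≠ 1 → ¬ Commute v d := by
    intro v hv hv1 hc
    obtain ⟨w, hw, hvw⟩ : ∃ w : Ω, d • w = w ∧ v • w ≠ w := by
      by_contra hno
      push Not at hno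
      have := h.fix_involution hv hv1
      have := two_le_fix hxy (hno x hdx) (hno y hdy)
      omega
    have h1 := h.invert hvw.symm rfl (smul_smul_self hv w) hw
      (by rw [← mul_smul, ← hc.eq, mul_smul, hw])
    rw [hc.eq, mul_inv_cancel_right] at h1
    exact hd (by nth_rewrite 2 [h1]; exact mul_inv_cancel d)
  set Cd := Subgroup.centralizer ({d} : Set G) with hCd
  have hodd : Odd (Nat.card Cd) := by
    haveI : Fact (Nat.Prime 2) := ⟨Nat.prime_two⟩
    by_contra he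
    rw [Nat.not_odd_iff_even, even_iff_two_dvd] at he
    obtain ⟨v, hv⟩ := exists_prime_orderOf_dvd_card' 2 he
    rw [← Subgroup.orderOf_coe] at hv
    refine hCodd (v : G) (by rw [← pow_two, ← hv, pow_orderOf_eq_one]) (fun e => ?_)
      (Subgroup.mem_centralizer_singleton_iff.1 v.2)
    rw [e, orderOf_one] at hv
    omega
  have htrans : ∀ p r : Ω, d • p = p → d • r = r → p ≠ r → ∃ c ∈ Cd, c • p = r := by
    intro p r hp hr hpr
    obtain ⟨m, hm, hmp, hmr⟩ : ∃ m : Ω, d • m = m ∧ m ≠ p ∧ m ≠ r := by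
      by_contra hno
      push Not at hno
      by_cases h1 : x = p
      · by_cases h2 : y = r
        · exact hxz ((h1.trans (by by_contra hz; exact hyz (h2.trans (hno z hdz (fun e => hz e.symm)).symm))))
        · exact h2 (hno y hdy (fun e => hxy (h1.trans e.symm)))
      · have h1' := hno x hdx h1
        by_cases h2 : y = p
        · exact hxz (h1'.trans (hno z hdz (fun e => hyz (h2.trans e.symm))).symm)
        · exact hxy (h1'.trans (hno y hdy h2).symm)
    obtain ⟨s, -, hs1, hs2⟩ := h.exists_swap hmp.symm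
    obtain ⟨s', -, hs1', hs2'⟩ := h.exists_swap hmr
    refine ⟨s' * s, Subgroup.mem_centralizer_singleton_iff.2 ?_, by rw [mul_smul, hs1, hs1']⟩
    have e1 := h.invert hmp.symm hs1 hs2 hp hm
    have e2 := h.invert hmr hs1' hs2' hm hr
    calc s' * s * d = s' * (s * d * s⁻¹) * s := by group
      _ = (s' * d * s'⁻¹)⁻¹ * (s' * s) := by rw [e1]; group
      _ = d * (s' * s) := by rw [e2, inv_inv]
  have horb : orbit Cd x = {w : Ω | d • w = w} := by
    ext w
    constructor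
    · rintro ⟨⟨c, hc⟩, rfl⟩
      show d • c • x = c • x
      rw [smul_smul, ← Subgroup.mem_centralizer_singleton_iff.1 hc, mul_smul, hdx]
    · intro hw
      by_cases hwx : w = x
      · rw [hwx]; exact MulAction.mem_orbit_self x
      · obtain ⟨c, hc, e⟩ := htrans x w hdx hw (Ne.symm hwx)
        exact ⟨⟨c, hc⟩, e⟩
  have hFodd : Odd (Nat.card F) := by
    have e : Nat.card F ∣ Nat.card Cd := by
      have := (stabilizer Cd x).index_dvd_card
      rwa [MulAction.index_stabilizer, horb, ← Nat.card_coe_set_eq] at this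
    exact hodd.of_dvd_nat e
  -- swappers act on the fixed points
  have hpres : ∀ s : G, s * d * s⁻¹ = d⁻¹ → ∀ w : Ω, d • w = w → d • s • w = s • w := by
    intro s hs w hw
    have e : d * s = s * d⁻¹ := by
      have h1 := congrArg (·⁻¹) hs
      simp only [mul_inv_rev, inv_inv] at h1
      calc d * s = (s * (d⁻¹ * s⁻¹)) * s := by rw [h1]
        _ = s * d⁻¹ := by group
    rw [← mul_smul, e, mul_smul, inv_smul_eq_iff.2 hw.symm]
  have hcentre : ∀ s : G, s * s = 1 → s * d * s⁻¹ = d⁻¹ → ∃ w : Ω, d • w = w ∧ s • w = w := by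
    intro s hs hsd
    let σ : Equiv.Perm F :=
      { toFun := fun w => ⟨s • w.1, hpres s hsd w.1 w.2⟩
        invFun := fun w => ⟨s • w.1, hpres s hsd w.1 w.2⟩
        left_inv := fun w => Subtype.ext (smul_smul_self hs w.1)
        right_inv := fun w => Subtype.ext (smul_smul_self hs w.1) }
    obtain ⟨w, hw⟩ := exists_fixed_of_odd σ (Equiv.ext fun w => Subtype.ext (smul_smul_self hs w.1)) hFodd
    exact ⟨w.1, w.2, congrArg Subtype.val hw⟩
  obtain ⟨s, hs, hs1, hs2⟩ := h.exists_swap hxy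
  obtain ⟨c₀, hc₀, hsc₀⟩ := hcentre s hs (h.invert hxy hs1 hs2 hdx hdy)
  have hs1' : s ≠ 1 := fun e => hxy (by rw [← hs1, e, one_smul])
  have hi1 : i = 1 := by
    have e := h.fix_involution hs hs1'
    haveI : Nonempty {w : Ω // s • w = w} := ⟨⟨c₀, hsc₀⟩⟩
    have : 0 < fix Ω s := Nat.card_pos
    omega
  -- counting the inverting involutions
  let R := {v : G // (v * v = 1 ∧ v ≠ 1) ∧ v * d * v⁻¹ = d⁻¹}
  set m := Nat.card ↥(stabilizer G x ⊓ stabilizer G y) with hm
  have hsw : ∀ p r : Ω, p ≠ r → Nat.card {v : G // v • p = r ∧ v • r = p} = m := by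
    intro p r hpr
    obtain ⟨v₀, hv₀, h1, h2⟩ := h.exists_swap hpr
    rw [hm, ← h.card_stab_eq hpr hxy]
    exact Nat.card_congr
      { toFun := fun v => ⟨v₀⁻¹ * v.1, Subgroup.mem_inf.2
          ⟨show (v₀⁻¹ * v.1) • p = p by rw [mul_smul, v.2.1, inv_smul_eq_iff, h1],
           show (v₀⁻¹ * v.1) • r = r by rw [mul_smul, v.2.2, inv_smul_eq_iff, h2]⟩⟩
        invFun := fun e => ⟨v₀ * e.1,
          by rw [mul_smul, show (e : G) • p = p from e.2.1, h1],
          by rw [mul_smul, show (e : G) • r = r from e.2.2, h2]⟩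
        left_inv := fun v => Subtype.ext (mul_inv_cancel_left _ _)
        right_inv := fun e => Subtype.ext (inv_mul_cancel_left _ _) }
  have hmove : ∀ v : R, Nat.card {w : F // v.1 • w.1 ≠ w.1} = Nat.card F - 1 := by
    intro v
    obtain ⟨w, hw, hvw⟩ := hcentre v.1 v.2.1.1 v.2.2
    have e : fix Ω v.1 = 1 := (h.fix_involution v.2.1.1 v.2.1.2).trans hi1
    obtain ⟨hsub, -⟩ := Nat.card_eq_one_iff_unique.1 e
    have hiff : ∀ w' : F, v.1 • w'.1 ≠ w'.1 ↔ ¬ (w' = ⟨w, hw⟩) := fun w' => by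
      refine ⟨fun h1 e => h1 (by rw [e]; exact hvw), fun h1 e => h1 (Subtype.ext ?_)⟩
      exact congrArg (fun q : {y : Ω // v.1 • y = y} => q.1) (hsub.elim ⟨w'.1, e⟩ ⟨w, hvw⟩)
    rw [Nat.card_congr (Equiv.subtypeEquivRight hiff), Nat.card_eq_fintype_card,
      Fintype.card_subtype_compl, Fintype.card_subtype_eq, Nat.card_eq_fintype_card]
  have hle : Nat.card F * (Nat.card F - 1) * m ≤ Nat.card R * (Nat.card F - 1) := by
    let P := Σ q : {q : F × F // q.1 ≠ q.2}, {v : G // v • q.1.1.1 = q.1.2.1 ∧ v • q.1.2.1 = q.1.1.1}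
    have hP : Nat.card P = Nat.card F * (Nat.card F - 1) * m := by
      rw [Nat.card_sigma]
      have : ∀ q : {q : F × F // q.1 ≠ q.2},
          Nat.card {v : G // v • q.1.1.1 = q.1.2.1 ∧ v • q.1.2.1 = q.1.1.1} = m :=
        fun q => hsw _ _ fun e => q.2 (Subtype.ext e)
      simp only [this, Finset.sum_const, Finset.card_univ, smul_eq_mul]
      have e := (Finset.univ (α := F)).offDiag_card
      rw [Fintype.card_subtype, show (Finset.univ.filter fun q : F × F => q.1 ≠ q.2) = Finset.univ.offDiag by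
        ext; simp, e, Finset.card_univ, Nat.card_eq_fintype_card, Nat.mul_sub, mul_one]
    have hT : Nat.card (Σ v : R, {w : F // v.1 • w.1 ≠ w.1}) = Nat.card R * (Nat.card F - 1) := by
      rw [Nat.card_sigma]
      simp only [hmove, Finset.sum_const, Finset.card_univ, smul_eq_mul]
      rw [Nat.card_eq_fintype_card (α := R)]
    rw [← hP, ← hT]
    refine Nat.card_le_card_of_injective (fun p : P =>
      (⟨⟨p.2.1, ⟨h.swap_sq (x := p.1.1.1.1) (by rw [p.2.2.1]; exact fun e => p.1.2 (Subtype.ext e.symm))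
          (by rw [p.2.2.1, p.2.2.2]), fun e => p.1.2 (Subtype.ext (by rw [← p.2.2.1, e, one_smul]))⟩,
        h.invert (fun e => p.1.2 (Subtype.ext e)) p.2.2.1 p.2.2.2 p.1.1.1.2 p.1.1.2.2⟩,
        ⟨p.1.1.1, by rw [p.2.2.1]; exact fun e => p.1.2 (Subtype.ext e.symm)⟩⟩ :
        Σ v : R, {w : F // v.1 • w.1 ≠ w.1})) ?_
    rintro ⟨⟨⟨a, b⟩, hab⟩, ⟨v, hv1, hv2⟩⟩ ⟨⟨⟨a', b'⟩, hab'⟩, ⟨v', hv1', hv2'⟩⟩ e
    have e1 : v = v' := congrArg (fun q : Σ v : R, {w : F // v.1 • w.1 ≠ w.1} => q.1.1) e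
    have e2 : a = a' := congrArg (fun q : Σ v : R, {w : F // v.1 • w.1 ≠ w.1} => q.2.1) e
    subst e1 e2
    have e3 : b = b' := Subtype.ext (hv1.symm.trans hv1')
    subst e3
    rfl
  have hF3 : 3 ≤ Nat.card F := by
    rw [Nat.card_eq_fintype_card]
    refine le_trans (le_of_eq (Finset.card_eq_three.2 ⟨(⟨x, hdx⟩ : F), ⟨y, hdy⟩, ⟨z, hdz⟩, ?_, ?_, ?_, rfl⟩).symm)
      (Finset.card_le_univ _)
    all_goals (intro e; first | exact hxy (congrArg Subtype.val e) | exact hxz (congrArg Subtype.val e) |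
      exact hyz (congrArg Subtype.val e))
  have hRm : Nat.card F * m ≤ Nat.card R := by
    refine Nat.le_of_mul_le_mul_right ?_ (show 0 < Nat.card F - 1 by omega)
    calc Nat.card F * m * (Nat.card F - 1) = Nat.card F * (Nat.card F - 1) * m := by ring
      _ ≤ _ := hle
  -- all involutions at a fixed point invert `d`
  choose cen hcen1 hcen2 using fun v : R => hcentre v.1 v.2.1.1 v.2.2
  let J := Σ w : F, {v : G // (v * v = 1 ∧ v ≠ 1) ∧ v • w.1 = w.1}
  have hJ : Nat.card J = Nat.card F * m := by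
    rw [Nat.card_sigma]
    have : ∀ w : F, Nat.card {v : G // (v * v = 1 ∧ v ≠ 1) ∧ v • w.1 = w.1} = m :=
      fun w => h.card_involutions_at hi1 w.1 hxy
    simp only [this, Finset.sum_const, Finset.card_univ, smul_eq_mul]
    rw [Nat.card_eq_fintype_card (α := F)]
  let f : R → J := fun v => ⟨⟨cen v, hcen1 v⟩, ⟨v.1, v.2.1, hcen2 v⟩⟩
  have hf : Function.Injective f := fun v v' e => Subtype.ext (congrArg (fun q : J => q.2.1) e :)
  have hbij : Function.Bijective f := (Nat.bijective_iff_injective_and_card f).2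
    ⟨hf, le_antisymm (Nat.card_le_card_of_injective f hf) (hJ ▸ hRm)⟩
  have hall : ∀ v : G, v * v = 1 → v ≠ 1 → ∀ w : Ω, d • w = w → v • w = w → v * d * v⁻¹ = d⁻¹ := by
    intro v hv hv1 w hw hvw
    obtain ⟨r, hr⟩ := hbij.2 ⟨⟨w, hw⟩, ⟨v, ⟨hv, hv1⟩, hvw⟩⟩
    have e : r.1 = v := congrArg (fun q : J => q.2.1) hr
    exact e ▸ r.2.2
  obtain ⟨u, w, hu, hu1, hw, hw1, huw, hc⟩ := hpair hi1
  have e : fix Ω u = 1 := (h.fix_involution hu hu1).trans hi1
  obtain ⟨hsub, ⟨⟨c, hucs⟩⟩⟩ := Nat.card_eq_one_iff_unique.1 e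
  have hwc : w • c = c := congrArg Subtype.val
    (hsub.elim ⟨w • c, by rw [← mul_smul, hc.eq, mul_smul, hucs]⟩ ⟨c, hucs⟩)
  obtain ⟨p, hpc⟩ : ∃ p : Ω, p ≠ c := by
    by_cases hx : x = c
    · exact ⟨y, fun e => hxy (hx.trans e.symm)⟩
    · exact ⟨x, hx⟩
  obtain ⟨g, hgc, -⟩ := h.two c p x y hpc.symm hxy
  have conjfix : ∀ v : G, v • c = c → (g * v * g⁻¹) • x = x := fun v hv => by
    rw [mul_smul, mul_smul, ← hgc, inv_smul_smul, hv]
  have conjsq : ∀ v : G, v * v = 1 → (g * v * g⁻¹) * (g * v * g⁻¹) = 1 := fun v hv => by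
    rw [show g * v * g⁻¹ * (g * v * g⁻¹) = g * (v * v) * g⁻¹ by group, hv]; group
  have e1 := hall _ (conjsq u hu) (by rwa [Ne, conj_eq_one_iff]) x hdx (conjfix u hucs)
  have e2 := hall _ (conjsq w hw) (by rwa [Ne, conj_eq_one_iff]) x hdx (conjfix w hwc)
  have huw2 : u * w * (u * w) = 1 := by
    rw [mul_assoc, ← mul_assoc w, ← hc.eq, mul_assoc u w w, hw, mul_one, hu]
  refine hCodd (g * (u * w) * g⁻¹) (conjsq _ huw2) (fun e => huw ?_) ?_
  · rw [eq_inv_of_mul_eq_one_left (conj_eq_one_iff.1 e), inv_eq_self hw]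
  · show g * (u * w) * g⁻¹ * d = d * (g * (u * w) * g⁻¹)
    have e1' := congrArg (·⁻¹) e1
    simp only [mul_inv_rev, inv_inv] at e1'
    calc g * (u * w) * g⁻¹ * d
        = (g * u * g⁻¹) * ((g * w * g⁻¹) * d * (g * w * g⁻¹)⁻¹) * (g * w * g⁻¹) := by group
      _ = (g * u * g⁻¹) * d⁻¹ * (g * u * g⁻¹)⁻¹ * (g * (u * w) * g⁻¹) := by rw [e2]; group
      _ = d * (g * (u * w) * g⁻¹) := by
          rw [show (g * u * g⁻¹) * d⁻¹ * (g * u * g⁻¹)⁻¹ = ((g * u * g⁻¹) * d * (g * u * g⁻¹)⁻¹)⁻¹ by group,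
            e1, inv_inv]

end Hyp

end Cfsg.Agent.InvCentFix
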